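import Groth.Agent.TopPullModel.LocalHomeo
import Groth.Agent.SiteCoh.Terminal
import Mathlib.Algebra.Category.Grp.AB
import Mathlib.Algebra.Category.Grp.Limits

/-!
Cohomology of a space covered by disjoint open pieces.
-/

set_option autoImplicit false
set_option linter.style.haveILetI false
set_option linter.unusedSectionVars false
set_option backward.isDefEq.respectTransparency false
set_option backward.isDefEq.respectTransparency.types false

universe u

open CategoryTheory Category Limits Opposite TopologicalSpace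
open Groth.Agent.TopPullModel

namespace Groth.Agent.TopFinite

/-- Global sections. -/
noncomputable abbrev top' (Y : TopCat.{u}) : CohTop.Ab Y ⥤ AddCommGrpCat.{u} :=
  sheafToPresheaf _ _ ⋙ (evaluation _ _).obj (op (⊤ : Opens Y))

/-- Maps out of the constant sheaf are global sections. -/
noncomputable def gamTop (Y : TopCat.{u}) : gam Y ≅ top' Y :=
  NatIso.ofComponents (fun G => AddEquiv.toAddCommGrpIso
      (X := AddCommGrpCat.of (_ ⟶ G)) (Y := AddCommGrpCat.of (G.obj.obj (op ⊤)))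
      (SiteCoh.constHom _ isTerminalTop G))
    fun {G G'} h => AddCommGrpCat.ext fun a => SiteCoh.constHom_comp _ isTerminalTop a h

variable {P : TopCat.{u}} {J : Type u} {Z : J → TopCat.{u}} (j : ∀ σ, Z σ ⟶ P)

/-- Global sections on the pieces. -/
noncomputable def pieces : CohTop.Ab P ⥤ (Discrete J ⥤ AddCommGrpCat.{u}) where
  obj G := Discrete.functor fun σ => (mfun (j σ) ⋙ top' (Z σ)).obj G
  map h := Discrete.natTrans fun σ => (mfun (j σ.as) ⋙ top' (Z σ.as)).map h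
  map_id G := NatTrans.ext (funext fun σ => (mfun (j σ.as) ⋙ top' (Z σ.as)).map_id G)
  map_comp f g := NatTrans.ext (funext fun σ => (mfun (j σ.as) ⋙ top' (Z σ.as)).map_comp f g)

instance pieces_additive : (pieces j).Additive where
  map_add {G G' f g} := NatTrans.ext (funext fun σ => (mfun (j σ.as) ⋙ top' (Z σ.as)).map_add)

/-- The restriction of a global section to a piece. -/
noncomputable def resPiece (G : CohTop.Ab P) (σ : J) :
    (top' P).obj G ⟶ (mfun (j σ) ⋙ top' (Z σ)).obj G :=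
  AddCommGrpCat.ofHom (Y := secs (j σ) G ⊤)
    { toFun := fun s => ⟨fun _ x => gm G ⊤ x.1 trivial s,
        fun _ => ⟨⊤, s, ⊤, trivial, fun _ _ => ⟨trivial, fun _ _ _ => rfl⟩⟩⟩
      map_zero' := secs_ext fun _ _ _ => map_zero _
      map_add' := fun a b => secs_ext fun _ _ _ => map_add _ a b }

/-- The restriction of global sections to all pieces. -/
noncomputable def resPieces : top' P ⟶ pieces j ⋙ lim where
  app G := limit.lift (Discrete.functor fun σ => (mfun (j σ) ⋙ top' (Z σ)).obj G)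
    (Fan.mk _ (resPiece j G))
  naturality {G G'} h := by
    refine limit.hom_ext fun σ => ?_
    obtain ⟨σ⟩ := σ
    refine (assoc _ _ _).trans (Eq.trans ?_ (assoc _ _ _).symm)
    change (top' P).map h ≫ limit.lift (Discrete.functor fun σ => (mfun (j σ) ⋙ top' (Z σ)).obj G')
        (Fan.mk _ (resPiece j G')) ≫ limit.π _ ⟨σ⟩ =
      limit.lift (Discrete.functor fun σ => (mfun (j σ) ⋙ top' (Z σ)).obj G) (Fan.mk _ (resPiece j G)) ≫
        limMap ((pieces j).map h) ≫ limit.π ((pieces j).obj G') ⟨σ⟩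
    erw [limMap_π, limit.lift_π, limit.lift_π_assoc]
    refine AddCommGrpCat.ext fun (s : G.obj.obj (op ⊤)) => secs_ext fun v x hx => ?_
    exact (stMap_gm h ⊤ x trivial s).symm

variable (hj : ∀ σ, Topology.IsOpenEmbedding (j σ))
  (hdis : ∀ (σ τ : J) (a : Z σ) (b : Z τ), j σ a = j τ b → σ = τ) (hcov : ∀ w, ∃ σ a, j σ a = w)

include hj hdis hcov in
theorem bijective_resPieces (G : CohTop.Ab P) : Function.Bijective ((resPieces j).app G) := by
  have hπ : ∀ (s : G.obj.obj (op ⊤)) (σ : J),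
      limit.π (Discrete.functor fun σ => (mfun (j σ) ⋙ top' (Z σ)).obj G) ⟨σ⟩ ((resPieces j).app G s) =
        resPiece j G σ s := fun s σ =>
    ConcreteCategory.congr_hom (limit.lift_π (Fan.mk _ (resPiece j G)) ⟨σ⟩) s
  refine ⟨fun (s t : G.obj.obj (op ⊤)) h => gm_ext G ⊤ s t fun x hx => ?_, fun y => ?_⟩
  · obtain ⟨σ, a, rfl⟩ := hcov x
    have e : resPiece j G σ s = resPiece j G σ t := by rw [← hπ, ← hπ, h]
    exact congrArg (fun t : secs (j σ) G ⊤ => t.1 ⟨a, trivial⟩ ⟨j σ a, rfl⟩) e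
  · let t : ∀ σ, secs (j σ) G ⊤ := fun σ =>
      limit.π (Discrete.functor fun σ => (mfun (j σ) ⋙ top' (Z σ)).obj G) ⟨σ⟩ y
    choose σ₀ a₀ ha₀ using hcov
    let g : ∀ w : (⊤ : Opens P), CohTop.stalk G w.1 := fun w =>
      (t (σ₀ w.1)).1 ⟨a₀ w.1, trivial⟩ ⟨w.1, ha₀ w.1⟩
    have hg : ∀ (σ : J) (a : Z σ) (w : P) (hw : j σ a = w),
        (t σ).1 ⟨a, trivial⟩ ⟨w, hw⟩ = g ⟨w, trivial⟩ := by
      intro σ a w hw
      obtain rfl : σ = σ₀ w := hdis σ (σ₀ w) a (a₀ w) (hw.trans (ha₀ w).symm)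
      obtain rfl : a = a₀ w := (hj (σ₀ w)).injective (hw.trans (ha₀ w).symm)
      rfl
    obtain ⟨s, hs, -⟩ := existsUnique_section ⊤ g fun w => by
      obtain ⟨O, s, W', hW', hh⟩ := (t (σ₀ w.1)).2 ⟨a₀ w.1, trivial⟩
      let N : Opens P := ⟨j (σ₀ w.1) '' (W' : Set (Z (σ₀ w.1))), (hj _).isOpenMap _ W'.2⟩
      refine ⟨O ⊓ N, G.obj.map (homOfLE inf_le_left).op s,
        ⟨ha₀ w.1 ▸ (hh _ hW').1, ⟨a₀ w.1, hW', ha₀ w.1⟩⟩, fun v hv => ?_⟩
      rw [gm_res]
      obtain ⟨b, hb, e⟩ := hv.2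
      exact (((hg _ b v.1 e).symm.trans ((hh ⟨b, trivial⟩ hb).2 v.1 e hv.1))).symm
    refine ⟨s, Concrete.limit_ext _ _ _ fun ⟨σ⟩ => (hπ s σ).trans (secs_ext fun v x hx => ?_)⟩
    exact (hs ⟨x, trivial⟩).trans (hg σ v.1 x hx).symm

include hj hdis hcov in
theorem nonempty_iso_pieces : Nonempty (top' P ≅ pieces j ⋙ lim) := by
  haveI : IsIso (resPieces j) := by
    suffices ∀ G, IsIso ((resPieces j).app G) from NatIso.isIso_of_isIso_app _
    intro G
    exact (ConcreteCategory.isIso_iff_bijective _).2 (bijective_resPieces j hj hdis hcov G)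
  exact ⟨asIso (resPieces j)⟩

include hj hdis hcov in
/-- Cohomology of a disjoint union. -/
theorem nonempty_H_disjoint (G : CohTop.Ab P) (q : ℕ) :
    Nonempty (AddCommGrpCat.of (CohTop.H G q) ≅
      AddCommGrpCat.of (∀ σ, CohTop.H ((mfun (j σ)).obj G) q)) := by
  haveI : (lim : (Discrete J ⥤ AddCommGrpCat.{u}) ⥤ _).Additive :=
    ⟨fun {X Y f g} => limit.hom_ext fun k => by simp⟩
  haveI : PreservesFiniteColimits (lim : (Discrete J ⥤ AddCommGrpCat.{u}) ⥤ _) :=
    HasExactLimitsOfShape.preservesFiniteColimits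
  obtain ⟨e⟩ := nonempty_iso_pieces j hj hdis hcov
  obtain ⟨i⟩ := GrothSS.nonempty_rightDerived_comp_exact (pieces j) lim q G
  have comp : ∀ σ : Discrete J, Nonempty ((((pieces j).rightDerived q).obj G).obj σ ≅
      AddCommGrpCat.of (CohTop.H ((mfun (j σ.as)).obj G) q)) := fun ⟨σ⟩ => by
    obtain ⟨k⟩ := GrothSS.nonempty_rightDerived_comp_exact (pieces j)
      ((evaluation (Discrete J) AddCommGrpCat.{u}).obj ⟨σ⟩) q G
    let e' : pieces j ⋙ (evaluation (Discrete J) AddCommGrpCat.{u}).obj ⟨σ⟩ ≅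
        mfun (j σ) ⋙ gam (Z σ) :=
      (NatIso.ofComponents (fun _ => Iso.refl _) (fun _ => (comp_id _).trans (id_comp _).symm) :
        pieces j ⋙ (evaluation (Discrete J) AddCommGrpCat.{u}).obj ⟨σ⟩ ≅ mfun (j σ) ⋙ top' (Z σ)) ≪≫
        Functor.isoWhiskerLeft _ (gamTop (Z σ)).symm
    obtain ⟨m⟩ := GrothSS.nonempty_rightDerived_comp_acyclic (mfun (j σ)) (gam (Z σ)) (fun Q hQ r hr => by
      obtain ⟨r, rfl⟩ : ∃ r', r = r' + 1 := ⟨r - 1, by omega⟩
      haveI := hQ
      haveI : TopCat.Sheaf.IsFlasque Q := S0454.result Q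
      haveI : TopCat.Sheaf.IsFlasque ((mfun (j σ)).obj Q) :=
        isFlasque_mobj (j σ) (hj σ).isLocalHomeomorph Q
      exact isZero_gamDerived_of_flasque _ r) q G
    exact ⟨k.symm ≪≫ (GrothSS.rightDerivedMapIso e' q).app G ≪≫ m ≪≫ gamDerived q _⟩
  let Hf : J → AddCommGrpCat.{u} := fun σ => AddCommGrpCat.of (CohTop.H ((mfun (j σ)).obj G) q)
  let e₁ : AddCommGrpCat.of (CohTop.H G q) ≅ lim.obj (((pieces j).rightDerived q).obj G) :=
    (gamDerived q G).symm ≪≫ (GrothSS.rightDerivedMapIso (gamTop P ≪≫ e) q).app G ≪≫ i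
  let e₂ : ((pieces j).rightDerived q).obj G ≅ Discrete.functor Hf :=
    Discrete.natIso fun σ => (comp σ).some
  let e₃ : lim.obj (Discrete.functor Hf) ≅ (AddCommGrpCat.HasLimit.productLimitCone Hf).cone.pt :=
    (limit.isLimit (Discrete.functor Hf)).conePointUniqueUpToIso
      (AddCommGrpCat.HasLimit.productLimitCone Hf).isLimit
  exact ⟨e₁ ≪≫ lim.mapIso e₂ ≪≫ e₃⟩

end Groth.Agent.TopFinite
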