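import Groth.Prelude.Def_CohTop
import Mathlib.Topology.Sheaves.LocallySurjective
import Mathlib.Topology.Sheaves.SheafCondition.UniqueGluing
import Mathlib.CategoryTheory.Sites.EpiMono

/-!
Direct images along closed maps with finite separated fibres preserve epimorphisms.
-/

set_option autoImplicit false
set_option linter.style.haveILetI false
set_option linter.unusedSectionVars false
set_option backward.isDefEq.respectTransparency false
set_option backward.isDefEq.respectTransparency.types false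

universe u v

open CategoryTheory Limits Opposite TopologicalSpace

namespace Groth.Agent.TopFinite

variable {X Y : TopCat.{u}}

/-- Every neighbourhood of a fibre contains the preimage of a neighbourhood. -/
def Tube (π : X ⟶ Y) : Prop :=
  ∀ (y : Y) (U : Set X), IsOpen U → π ⁻¹' {y} ⊆ U → ∃ V : Set Y, IsOpen V ∧ y ∈ V ∧ π ⁻¹' V ⊆ U

/-- Finite fibres, separated by opens. -/
def FinSep (π : X ⟶ Y) : Prop :=
  ∀ y : Y, (π ⁻¹' {y}).Finite ∧ ∃ U : X → Set X,
    (∀ x ∈ π ⁻¹' {y}, IsOpen (U x) ∧ x ∈ U x) ∧ (π ⁻¹' {y}).PairwiseDisjoint U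

theorem tube_of_isClosedMap (π : X ⟶ Y) (h : IsClosedMap π) : Tube π := fun y U hU hy =>
  ⟨(π '' Uᶜ)ᶜ, (h _ hU.isClosed_compl).isOpen_compl, fun ⟨x, hx, hxy⟩ => hx (hy hxy),
    fun x hx => by_contra fun hxU => hx ⟨x, hxU, rfl⟩⟩

/-- Disjoint neighbourhoods of the points of a fibre inside prescribed ones, and a neighbourhood of the base point. -/
theorem exists_tube (π : X ⟶ Y) (h1 : Tube π) (h2 : FinSep π) (y : Y) (V : Opens Y) (hy : y ∈ V)
    (N : ∀ x, π x = y → Opens X) (hN : ∀ x (h : π x = y), x ∈ N x h) :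
    ∃ (W : Opens Y) (D : {x : X // π x = y} → Opens X), y ∈ W ∧ W ≤ V ∧
      (∀ x, x.1 ∈ D x) ∧ (∀ x, D x ≤ N x.1 x.2) ∧ (∀ x x', x ≠ x' → D x ⊓ D x' = ⊥) ∧
      (Opens.map π).obj W ≤ ⨆ x, D x := by
  obtain ⟨hfin, U, hU, hdis⟩ := h2 y
  let D : {x : X // π x = y} → Opens X := fun x =>
    ⟨U x.1, (hU x.1 x.2).1⟩ ⊓ N x.1 x.2 ⊓ (Opens.map π).obj V
  have hD : ∀ x, x.1 ∈ D x := fun x => ⟨⟨(hU x.1 x.2).2, hN x.1 x.2⟩, show π x.1 ∈ V from x.2.symm ▸ hy⟩
  obtain ⟨W, hW, hyW, hWD⟩ := h1 y ((⨆ x, D x : Opens X) : Set X) (⨆ x, D x).2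
    fun x hx => Opens.mem_iSup.2 ⟨⟨x, hx⟩, hD _⟩
  refine ⟨⟨W, hW⟩ ⊓ V, D, ⟨hyW, hy⟩, inf_le_right, hD, fun x => inf_le_left.trans inf_le_right,
    fun x x' h => ?_, fun v hv => hWD hv.1⟩
  refine eq_bot_iff.2 fun v hv => ?_
  exact Set.disjoint_left.1 (hdis x.2 x'.2 fun e => h (Subtype.ext e)) hv.1.1.1 hv.2.1.1

variable {C : Type (u + 1)} [Category.{u} C] {FC : C → C → Type*} {CC : C → Type u}
  [∀ A B, FunLike (FC A B) (CC A) (CC B)] [ConcreteCategory.{u} C FC]
  [HasLimitsOfSize.{u, u} C] [(CategoryTheory.forget C).ReflectsIsomorphisms]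
  [PreservesLimitsOfSize.{u, u} (CategoryTheory.forget C)]

theorem subsingleton_bot (G : TopCat.Sheaf C X) : Subsingleton (ToType (G.obj.obj (op (⊥ : Opens X)))) := by
  refine ⟨fun a b => ?_⟩
  obtain ⟨c, -, hc⟩ := TopCat.Sheaf.existsUnique_gluing' G (fun i : PEmpty.{u + 1} => i.elim) ⊥
    (fun i => i.elim) bot_le (fun i => i.elim) (fun i => i.elim)
  exact (hc a fun i => i.elim).trans (hc b fun i => i.elim).symm

theorem isLocallySurjective_push (π : X ⟶ Y) (h1 : Tube π) (h2 : FinSep π) {G G' : TopCat.Sheaf C X}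
    (φ : G ⟶ G') (hφ : TopCat.Presheaf.IsLocallySurjective φ.hom) :
    TopCat.Presheaf.IsLocallySurjective ((TopCat.Sheaf.pushforward C π).map φ).hom := by
  rw [TopCat.Presheaf.isLocallySurjective_iff] at hφ ⊢
  intro V t y hy
  choose N hNV hs hN using fun (x : X) (hx : π x = y) =>
    hφ ((Opens.map π).obj V) t x (show π x ∈ V from hx.symm ▸ hy)
  choose s hs using hs
  obtain ⟨W, D, hyW, hWV, hD, hDN, hdis, hcov⟩ := exists_tube π h1 h2 y V hy N hN
  let U : {x : X // π x = y} → Opens X := fun x => D x ⊓ (Opens.map π).obj W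
  obtain ⟨g, hg, -⟩ := TopCat.Sheaf.existsUnique_gluing' G U ((Opens.map π).obj W)
    (fun x => homOfLE inf_le_right) (fun v hv => by
      obtain ⟨x, hx⟩ := Opens.mem_iSup.1 (hcov hv)
      exact Opens.mem_iSup.2 ⟨x, hx, hv⟩)
    (fun x => G.obj.map (homOfLE (inf_le_left.trans (hDN x) : U x ≤ N x.1 x.2)).op (s x.1 x.2))
    (fun x x' => by
      rcases eq_or_ne x x' with rfl | hne
      · rfl
      have hb : U x ⊓ U x' = ⊥ := eq_bot_iff.2 fun v hv => (hdis x x' hne).le ⟨hv.1.1, hv.2.1⟩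
      haveI : Subsingleton (ToType (G.obj.obj (op (U x ⊓ U x')))) := by rw [hb]; exact subsingleton_bot G
      exact Subsingleton.elim _ _)
  refine ⟨W, hWV, ⟨g, ?_⟩, hyW⟩
  obtain ⟨c, -, hc⟩ := TopCat.Sheaf.existsUnique_gluing' G' U ((Opens.map π).obj W)
    (fun x => homOfLE inf_le_right) (fun v hv => by
      obtain ⟨x, hx⟩ := Opens.mem_iSup.1 (hcov hv)
      exact Opens.mem_iSup.2 ⟨x, hx, hv⟩)
    (fun x => G'.obj.map (homOfLE (inf_le_right.trans ((Opens.map π).monotone hWV) : U x ≤ (Opens.map π).obj V)).op t)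
    (fun x x' => by
      change G'.obj.map _ (G'.obj.map _ t) = G'.obj.map _ (G'.obj.map _ t)
      simp only [← ConcreteCategory.comp_apply, ← Functor.map_comp]
      rfl)
  have comp : ∀ {A B D : Opens X} (i : B ≤ A) (j : D ≤ B) (z : ToType (G'.obj.obj (op A))),
      G'.obj.map (homOfLE j).op (G'.obj.map (homOfLE i).op z) = G'.obj.map (homOfLE (j.trans i)).op z :=
    fun i j z => by rw [← ConcreteCategory.comp_apply, ← Functor.map_comp]; rfl
  refine (hc _ fun x => ?_).trans (hc _ fun x => ?_).symm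
  · refine (NatTrans.naturality_apply φ.hom (homOfLE (inf_le_right : U x ≤ (Opens.map π).obj W)).op g).symm.trans ?_
    refine (congrArg _ (hg x)).trans ?_
    refine (NatTrans.naturality_apply φ.hom _ _).trans ?_
    refine (congrArg _ (hs x.1 x.2)).trans ?_
    exact comp _ _ t
  · exact comp ((Opens.map π).monotone hWV) inf_le_right t

theorem push_preservesEpimorphisms [Balanced (CategoryTheory.Sheaf (Opens.grothendieckTopology X) C)]
    [Balanced (CategoryTheory.Sheaf (Opens.grothendieckTopology Y) C)]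
    [(Opens.grothendieckTopology X).HasSheafCompose (CategoryTheory.forget C)]
    [(Opens.grothendieckTopology Y).HasSheafCompose (CategoryTheory.forget C)]
    [HasSheafify (Opens.grothendieckTopology X) C] [HasSheafify (Opens.grothendieckTopology Y) C]
    [(Opens.grothendieckTopology X).WEqualsLocallyBijective C]
    [(Opens.grothendieckTopology Y).WEqualsLocallyBijective C]
    [ConcreteCategory.HasFunctorialSurjectiveInjectiveFactorization C]
    (π : X ⟶ Y) (h1 : Tube π) (h2 : FinSep π) :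
    (TopCat.Sheaf.pushforward C π).PreservesEpimorphisms :=
  ⟨fun φ hφ => (TopCat.Sheaf.isLocallySurjective_iff_epi _).1
    (isLocallySurjective_push π h1 h2 φ ((TopCat.Sheaf.isLocallySurjective_iff_epi φ).2 hφ))⟩

theorem pushAb_preservesFiniteColimits (π : X ⟶ Y) (h1 : Tube π) (h2 : FinSep π) :
    PreservesFiniteColimits (CohTop.push π) := by
  haveI : (CohTop.push π).PreservesEpimorphisms := push_preservesEpimorphisms π h1 h2
  haveI : PreservesFiniteLimits (CohTop.push π) := by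
    haveI := (TopCat.Sheaf.pullbackPushforwardAdjunction AddCommGrpCat.{u} π).rightAdjoint_preservesLimits
    infer_instance
  refine ((CohTop.push π).preservesFiniteColimits_tfae.out 0 3 rfl rfl).1 fun S hS => ?_
  haveI := hS.epi_g
  exact ⟨((((CohTop.push π).preservesFiniteLimits_tfae.out 3 0 rfl rfl).1 inferInstance) S hS).1,
    inferInstanceAs (Epi ((CohTop.push π).map S.g))⟩

end Groth.Agent.TopFinite
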