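import Groth.Agent.TopFinite.SS
import Groth.Agent.TopFinite.Disjoint

/-!
The descent spectral sequence of a locally finite closed covering.
-/

set_option autoImplicit false
set_option linter.style.haveILetI false
set_option linter.unusedSectionVars false
set_option backward.isDefEq.respectTransparency false
set_option backward.isDefEq.respectTransparency.types false

universe u

open CategoryTheory Category Limits Opposite TopologicalSpace
open Groth.Agent.TopPullModel

namespace Groth.Agent.TopFinite

variable {X : TopCat.{u}} {I : Type u} (U : I → Set X)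

/-- The disjoint union of the members of the covering. -/
abbrev coverSum : TopCat.{u} := TopCat.of (Σ i, U i)

/-- The map from the disjoint union. -/
def coverMap : coverSum U ⟶ X :=
  TopCat.ofHom ⟨fun a => a.2.1, continuous_sigma fun _ => continuous_subtype_val⟩

theorem isClosedMap_coverMap (hU : ∀ i, IsClosed (U i)) (hlf : LocallyFinite U) : IsClosedMap (coverMap U) := by
  intro C hC
  have e : coverMap U '' C = ⋃ i, Subtype.val '' ((fun a : U i => (⟨i, a⟩ : Σ i, U i)) ⁻¹' C) := by
    ext x
    constructor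
    · rintro ⟨⟨i, a⟩, ha, rfl⟩
      exact Set.mem_iUnion.2 ⟨i, a, ha, rfl⟩
    · rintro h
      obtain ⟨i, a, ha, rfl⟩ := Set.mem_iUnion.1 h
      exact ⟨⟨i, a⟩, ha, rfl⟩
  rw [e]
  refine LocallyFinite.isClosed_iUnion (hlf.subset fun i => ?_) fun i =>
    (hU i).isClosedEmbedding_subtypeVal.isClosedMap _ (hC.preimage continuous_sigmaMk)
  rintro _ ⟨a, -, rfl⟩
  exact a.2

theorem finSep_coverMap (hlf : LocallyFinite U) : FinSep (coverMap U) := by
  intro x
  refine ⟨?_, fun a => Set.range (Sigma.mk a.1), fun a _ => ⟨isOpen_range_sigmaMk, a.2, rfl⟩,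
    fun a ha b hb hne => Set.disjoint_left.2 ?_⟩
  · refine Set.Finite.of_finite_image ((hlf.point_finite x).subset ?_) (f := fun a => a.1) ?_
    · rintro _ ⟨⟨i, a⟩, ha, rfl⟩
      exact (show a.1 = x from ha) ▸ a.2
    · rintro ⟨i, a⟩ ha ⟨i', b⟩ hb (rfl : i = i')
      rw [Subtype.ext ((show a.1 = x from ha).trans (show b.1 = x from hb).symm)]
  · rintro _ ⟨c, rfl⟩ ⟨d, hd⟩
    obtain ⟨i, a⟩ := a
    obtain ⟨i', b⟩ := b
    obtain rfl : i' = i := congrArg Sigma.fst hd
    exact hne (by rw [Subtype.ext ((show a.1 = x from ha).trans (show b.1 = x from hb).symm)])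

theorem surjective_coverMap (hcov : ⋃ i, U i = Set.univ) : Function.Surjective (coverMap U) := fun x => by
  obtain ⟨i, hi⟩ := Set.mem_iUnion.1 (hcov.ge (Set.mem_univ x))
  exact ⟨⟨i, x, hi⟩, rfl⟩

variable (p : ℕ) (σ : Fin (p + 1) → I)

/-- An intersection of members, as a space. -/
abbrev inter : TopCat.{u} := TopCat.of (⋂ k, U (σ k) : Set X)

/-- The inclusion of an intersection into the space. -/
abbrev interIncl : inter U p σ ⟶ X :=
  TopCat.ofHom ⟨((↑) : (⋂ k, U (σ k) : Set X) → X), continuous_subtype_val⟩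

/-- An intersection, as a piece of the fibre power. -/
noncomputable def piece : inter U p σ ⟶ Pw (coverMap U) p :=
  TopCat.ofHom ⟨fun x => ⟨fun k => ⟨σ k, ⟨x.1, Set.mem_iInter.1 x.2 k⟩⟩, fun _ => rfl⟩,
    Continuous.subtype_mk (continuous_pi fun k =>
      continuous_sigmaMk.comp (continuous_subtype_val.subtype_mk _)) _⟩ ≫ ofTup (coverMap U) p

theorem pr_piece (x : inter U p σ) (k : Fin (p + 1)) :
    pr (coverMap U) k (piece U p σ x) = ⟨σ k, ⟨x.1, Set.mem_iInter.1 x.2 k⟩⟩ :=
  pr_ofTup (coverMap U) p _ k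

theorem piece_bs : piece U p σ ≫ bs (coverMap U) p = interIncl U p σ := by
  ext x
  exact (bs_ofTup (coverMap U) p _)

theorem mem_range_piece (w : Pw (coverMap U) p) :
    w ∈ Set.range (piece U p σ) ↔ ∀ k, (pr (coverMap U) k w).1 = σ k := by
  constructor
  · rintro ⟨x, rfl⟩ k
    rw [pr_piece]
  · intro h
    have hx : ∀ k, bs (coverMap U) p w ∈ U (σ k) := fun k => by
      rw [← h k, ← f_pr (coverMap U) k w]
      exact (pr (coverMap U) k w).2.2
    refine ⟨⟨bs (coverMap U) p w, Set.mem_iInter.2 hx⟩, pw_ext _ fun k => ?_⟩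
    rw [pr_piece]
    have e := f_pr (coverMap U) k w
    have hk := h k
    revert e hk
    generalize pr (coverMap U) k w = a
    obtain ⟨i, a⟩ := a
    intro e hk
    subst hk
    exact congrArg (Sigma.mk _) (Subtype.ext e.symm)

theorem isOpenEmbedding_piece : Topology.IsOpenEmbedding (piece U p σ) := by
  refine ⟨Topology.IsEmbedding.of_comp (piece U p σ).hom.continuous (bs (coverMap U) p).hom.continuous ?_, ?_⟩
  · have e : ⇑(bs (coverMap U) p) ∘ ⇑(piece U p σ) = Subtype.val :=
      funext fun x => ConcreteCategory.congr_hom (piece_bs U p σ) x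
    rw [e]
    exact Topology.IsEmbedding.subtypeVal
  · have e : Set.range (piece U p σ) = ⋂ k, pr (coverMap U) k ⁻¹' Set.range (Sigma.mk (σ k)) := by
      ext w
      rw [mem_range_piece, Set.mem_iInter]
      refine forall_congr' fun k => ?_
      rw [Set.mem_preimage, Set.range_sigmaMk]
      rfl
    rw [e]
    exact isOpen_iInter_of_finite fun k => isOpen_range_sigmaMk.preimage (pr (coverMap U) k).hom.continuous

/-- The first page of the descent spectral sequence of a closed covering. -/
theorem nonempty_firstPage (F : CohTop.Ab X) (q : ℕ) :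
    Nonempty (AddCommGrpCat.of (CohTop.H ((mfun (bs (coverMap U) p)).obj F) q) ≅
      AddCommGrpCat.of (∀ σ : Fin (p + 1) → I, CohTop.H ((CohTop.pull (interIncl U p σ)).obj F) q)) := by
  obtain ⟨e⟩ := nonempty_H_disjoint (Z := fun σ => inter U p σ) (piece U p) (isOpenEmbedding_piece U p)
    (fun σ τ a b h => funext fun k => by
      exact (congrArg Sigma.fst (pr_piece U p σ a k)).symm.trans
        ((congrArg (fun w => (pr (coverMap U) k w).1) h).trans (congrArg Sigma.fst (pr_piece U p τ b k))))
    (fun w => by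
      obtain ⟨x, hx⟩ := (mem_range_piece U p (fun k => (pr (coverMap U) k w).1) w).2 fun _ => rfl
      exact ⟨_, x, hx⟩)
    ((mfun (bs (coverMap U) p)).obj F) q
  let c : ∀ σ, (mfun (piece U p σ)).obj ((mfun (bs (coverMap U) p)).obj F) ≅
      (CohTop.pull (interIncl U p σ)).obj F := fun σ =>
    (mfun (piece U p σ)).mapIso ((mfunIso (bs (coverMap U) p)).app F) ≪≫ (mfunIso (piece U p σ)).app _ ≪≫
      (CohTopDesc.pullCompIso (piece U p σ) (bs (coverMap U) p) (interIncl U p σ) (piece_bs U p σ)).app F
  exact ⟨e ≪≫ (AddEquiv.piCongrRight fun σ =>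
    (CohTopDesc.hIso (c σ) q).addCommGroupIsoToAddEquiv).toAddCommGrpIso⟩

end Groth.Agent.TopFinite
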