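import Groth.Agent.TopFinite.Power

/-!
The descent complex of a surjective closed map with finite separated fibres is exact.
-/

set_option autoImplicit false
set_option linter.style.haveILetI false
set_option linter.unusedSectionVars false
set_option backward.isDefEq.respectTransparency false
set_option backward.isDefEq.respectTransparency.types false

universe u

open CategoryTheory Category Limits Opposite TopologicalSpace
open Groth.Agent.TopPullModel

namespace Groth.Agent.TopFinite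

section General

variable {P S : TopCat.{u}} (g : P ⟶ S) (h1 : Tube g) (h2 : FinSep g) (F : CohTop.Ab S)

include h1 h2 in
/-- Families of germs along a fibre extend to sections near the fibre. -/
theorem exists_realize (x : S) (V : Opens S) (hx : x ∈ V) (b : ∀ w : P, g w = x → CohTop.stalk F x) :
    ∃ (W : Opens S) (_ : x ∈ W) (_ : W ≤ V) (t : secs g F ((Opens.map g).obj W)),
      ∀ (w : (Opens.map g).obj W) (hw : g w.1 = x), t.1 w ⟨x, hw⟩ = b w.1 hw := by
  choose O hO s hs using fun (w : P) (hw : g w = x) => exists_gm_eq F (b w hw)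
  obtain ⟨W, D, hxW, hWV, hD, hDN, hdis, hcov⟩ := exists_tube g h1 h2 x V hx
    (fun w hw => (Opens.map g).obj (O w hw)) (fun w hw => show g w ∈ O w hw from hw.symm ▸ hO w hw)
  let U : {w : P // g w = x} → Opens P := fun w => D w ⊓ (Opens.map g).obj W
  have hle : ∀ w : {w : P // g w = x}, U w ≤ (Opens.map g).obj (O w.1 w.2) := fun w =>
    inf_le_left.trans (hDN w)
  obtain ⟨t, ht, -⟩ := TopCat.Sheaf.existsUnique_gluing' (C := AddCommGrpCat.{u}) (mobj g F) U
    ((Opens.map g).obj W) (fun w => homOfLE inf_le_right)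
    (fun v hv => by
      obtain ⟨w, hw⟩ := Opens.mem_iSup.1 (hcov hv)
      exact Opens.mem_iSup.2 ⟨w, hw, hv⟩)
    (fun w => (pre g F).map (homOfLE (hle w)).op (unitApp g F (O w.1 w.2) (s w.1 w.2)))
    (fun w w' => by
      rcases eq_or_ne w w' with rfl | hne
      · rfl
      refine secs_ext (g := g) (F := F) (W := U w ⊓ U w') fun v y hy => ?_
      have : v.1 ∈ (⊥ : Opens P) := (hdis w w' hne).le ⟨v.2.1.1, v.2.2.1⟩
      exact this.elim)
  refine ⟨W, hxW, hWV, t, fun w hw => ?_⟩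
  have h := congrArg (fun a : secs g F (U ⟨w.1, hw⟩) => a.1 ⟨w.1, hD ⟨w.1, hw⟩, w.2⟩ ⟨x, hw⟩) (ht ⟨w.1, hw⟩)
  exact h.trans (hs w.1 hw)

include h1 h2 in
/-- A section vanishing along a fibre vanishes near it. -/
theorem exists_zero (x : S) (V : Opens S) (hx : x ∈ V) (t : secs g F ((Opens.map g).obj V))
    (ht : ∀ (w : (Opens.map g).obj V) (hw : g w.1 = x), t.1 w ⟨x, hw⟩ = 0) :
    ∃ (W : Opens S) (_ : x ∈ W) (h : W ≤ V), (pre g F).map (homOfLE ((Opens.map g).monotone h)).op t = 0 := by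
  have key : ∀ (w : P) (hw : g w = x), ∃ N : Opens P, w ∈ N ∧
      ∀ (v : (Opens.map g).obj V), v.1 ∈ N → ∀ (y : S) (hy : g v.1 = y), t.1 v ⟨y, hy⟩ = 0 := fun w hw => by
    obtain ⟨O, s, N, hN, hs⟩ := t.2 ⟨w, show g w ∈ V from hw.symm ▸ hx⟩
    have hxO : x ∈ O := hw ▸ (hs _ hN).1
    have h0 : gm F O x hxO s = gm F O x hxO 0 := by
      rw [map_zero, ← (hs _ hN).2 x hw hxO]
      exact ht _ hw
    obtain ⟨O', hxO', i₁, i₂, he⟩ := TopCat.Presheaf.germ_eq (C := AddCommGrpCat.{u}) (X := S) F.obj x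
      hxO hxO s 0 h0
    refine ⟨N ⊓ (Opens.map g).obj O', ⟨hN, show g w ∈ O' from hw.symm ▸ hxO'⟩, fun v hv y hy => ?_⟩
    subst hy
    rw [(hs v hv.1).2 _ rfl (hs v hv.1).1, ← gm_res F (leOfHom i₁) (g v.1) hv.2 s,
      show F.obj.map (homOfLE (leOfHom i₁)).op s = _ from he, map_zero, map_zero]
  choose N hN hz using key
  obtain ⟨W, D, hxW, hWV, -, hDN, -, hcov⟩ := exists_tube g h1 h2 x V hx N hN
  refine ⟨W, hxW, hWV, secs_ext (g := g) (F := F) (W := (Opens.map g).obj W) fun v y hy => ?_⟩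
  obtain ⟨w, hw⟩ := Opens.mem_iSup.1 (hcov v.2)
  exact hz w.1 w.2 ⟨v.1, hWV v.2⟩ (hDN w hw) y hy

end General

/-- Exactness from lifting of germs. -/
theorem exact_of_germs {S : TopCat.{u}} (T : ShortComplex (CohTop.Ab S))
    (hloc : ∀ (x : S) (O : Opens S) (_ : x ∈ O) (t : T.X₂.obj.obj (op O)), T.g.hom.app (op O) t = 0 →
      ∃ (W : Opens S) (_ : x ∈ W) (h : W ≤ O) (t' : T.X₁.obj.obj (op W)),
        T.f.hom.app (op W) t' = T.X₂.obj.map (homOfLE h).op t) :
    T.Exact := by
  rw [TopCat.Sheaf.exact_iff_stalkFunctor_map_exact]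
  intro x
  rw [ShortComplex.ab_exact_iff]
  intro a ha
  obtain ⟨O, hxO, t, rfl⟩ := exists_gm_eq T.X₂ a
  have ha' : gm T.X₃ O x hxO (T.g.hom.app (op O) t) = gm T.X₃ O x hxO 0 := by
    rw [map_zero, ← stMap_gm T.g O x hxO t]
    exact ha
  obtain ⟨O', hxO', i₁, i₂, he⟩ := TopCat.Presheaf.germ_eq (C := AddCommGrpCat.{u}) (X := S) T.X₃.obj x
    hxO hxO (T.g.hom.app (op O) t) 0 ha'
  obtain ⟨W, hxW, hW, t', ht'⟩ := hloc x O' hxO' (T.X₂.obj.map i₁.op t) (by
    rw [NatTrans.naturality_apply T.g.hom i₁.op t, he, map_zero])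
  refine ⟨gm T.X₁ W x hxW t', ?_⟩
  exact (stMap_gm T.f W x hxW t').trans ((congrArg (gm T.X₂ W x hxW) ht').trans
    ((gm_res _ hW x hxW _).trans (gm_res T.X₂ (leOfHom i₁) x (hW hxW) t)))

variable {X S : TopCat.{u}} (f : X ⟶ S) (F : CohTop.Ab S)

/-- Prepending a point of the fibre. -/
noncomputable def cons' {p : ℕ} (y : X) (w : Pw f p) (h : f y = bs f p w) : Pw f (p + 1) :=
  ofTup f (p + 1) ⟨Fin.cases y fun i => pr f i w, fun i => by
    cases i using Fin.cases with
    | zero => rfl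
    | succ j => exact (f_pr f j w).trans h.symm⟩

theorem pr_cons'_zero {p : ℕ} (y : X) (w : Pw f p) (h : f y = bs f p w) : pr f 0 (cons' f y w h) = y :=
  pr_ofTup f _ _ _

theorem pr_cons'_succ {p : ℕ} (y : X) (w : Pw f p) (h : f y = bs f p w) (i : Fin (p + 1)) :
    pr f i.succ (cons' f y w h) = pr f i w :=
  pr_ofTup f _ _ _

theorem bs_cons' {p : ℕ} (y : X) (w : Pw f p) (h : f y = bs f p w) :
    bs f (p + 1) (cons' f y w h) = bs f p w :=
  (bs_ofTup f _ _).trans h

/-- Values of the differential. -/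
theorem dd_val (p : ℕ) (V : Opens S) (t : secs (bs f p) F ((Opens.map (bs f p)).obj V))
    (w : (Opens.map (bs f (p + 1))).obj V) (x : {x : S // bs f (p + 1) w.1 = x}) :
    (((dd f p).app F).hom.app (op V) t).1 w x =
      ∑ i : Fin (p + 2), (-1 : ℤ) ^ (i : ℕ) • (simpSec f (Fin.succAbove i) F V t).1 w x := by
  let e : secs (bs f (p + 1)) F ((Opens.map (bs f (p + 1))).obj V) →+ CohTop.stalk F x.1 :=
    AddMonoidHom.mk' (fun a => a.1 w x) fun a b => rfl
  change e (((dd f p).app F).hom.app (op V) t) = _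
  rw [dd_apply, map_sum]
  exact Finset.sum_congr rfl fun i _ => map_zsmul e _ _

variable (h1 : Tube f) (h2 : FinSep f) (hs : Function.Surjective f)

include h1 h2 hs in
theorem exact_dd (p : ℕ) : (ShortComplex.mk ((dd f p).app F) ((dd f (p + 1)).app F) (dd_dd f p F)).Exact :=
  exact_of_germs _ fun x O hx t ht => by
    obtain ⟨y, rfl⟩ := hs x
    change secs (bs f (p + 1)) F ((Opens.map (bs f (p + 1))).obj O) at t
    let b : ∀ w : Pw f p, bs f p w = f y → CohTop.stalk F (f y) := fun w hw =>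
      t.1 ⟨cons' f y w hw.symm, show bs f (p + 1) (cons' f y w hw.symm) ∈ O from
        ((bs_cons' f y w hw.symm).trans hw).symm ▸ hx⟩ ⟨f y, (bs_cons' f y w hw.symm).trans hw⟩
    obtain ⟨W, hxW, hWO, t', ht'⟩ := exists_realize (bs f p) (tube_bs f p h1 h2) (finSep_bs f p h2) F (f y) O hx b
    let tW : secs (bs f (p + 1)) F ((Opens.map (bs f (p + 1))).obj W) :=
      ((Cp f (p + 1)).obj F).obj.map (homOfLE hWO).op t
    let dt : secs (bs f (p + 1)) F ((Opens.map (bs f (p + 1))).obj W) := ((dd f p).app F).hom.app (op W) t'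
    let r := dt - tW
    obtain ⟨W', hxW', hW', hr⟩ := exists_zero (bs f (p + 1)) (tube_bs f (p + 1) h1 h2)
      (finSep_bs f (p + 1) h2) F (f y) W hxW r (fun w hw => by
        change (((dd f p).app F).hom.app (op W) t').1 w ⟨f y, hw⟩ - tW.1 w ⟨f y, hw⟩ = 0
        rw [sub_eq_zero, dd_val]
        have hc : ∀ i : Fin (p + 2), (simpSec f (Fin.succAbove i) F W t').1 w ⟨f y, hw⟩ =
            b (simp' f (Fin.succAbove i) w.1) ((bs_simp' f _ w.1).trans hw) := fun i => ht' _ _
        have hwO : bs f (p + 2) (cons' f y w.1 hw.symm) ∈ O :=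
          ((bs_cons' f y w.1 hw.symm).trans hw).symm ▸ hx
        have h := (dd_val f F (p + 1) O t ⟨cons' f y w.1 hw.symm, hwO⟩
          ⟨f y, (bs_cons' f y w.1 hw.symm).trans hw⟩).symm.trans
          (congrArg (fun a : secs (bs f (p + 2)) F ((Opens.map (bs f (p + 2))).obj O) =>
            a.1 ⟨cons' f y w.1 hw.symm, hwO⟩ ⟨f y, (bs_cons' f y w.1 hw.symm).trans hw⟩) ht)
        rw [Fin.sum_univ_succ] at h
        have h0 : (simpSec f (Fin.succAbove 0) F O t).1 ⟨cons' f y w.1 hw.symm, hwO⟩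
            ⟨f y, (bs_cons' f y w.1 hw.symm).trans hw⟩ = tW.1 w ⟨f y, hw⟩ :=
          secs_congr t (pw_ext f fun i => by
            refine (pr_simp' f _ i _).trans ?_
            rw [Fin.succAbove_zero]
            exact pr_cons'_succ f y w.1 hw.symm i) _ _ _
        have hsucc : ∀ i : Fin (p + 2), (simpSec f (Fin.succAbove i.succ) F O t).1 ⟨cons' f y w.1 hw.symm, hwO⟩
            ⟨f y, (bs_cons' f y w.1 hw.symm).trans hw⟩ =
            b (simp' f (Fin.succAbove i) w.1) ((bs_simp' f _ w.1).trans hw) := fun i =>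
          secs_congr t (pw_ext f fun j => by
            refine (pr_simp' f _ j _).trans ?_
            cases j using Fin.cases with
            | zero =>
              rw [Fin.succ_succAbove_zero]
              refine (pr_cons'_zero f y w.1 hw.symm).trans ?_
              exact (pr_cons'_zero f y _ ((bs_simp' f _ w.1).trans hw).symm).symm
            | succ j =>
              rw [Fin.succ_succAbove_succ]
              refine (pr_cons'_succ f y w.1 hw.symm (i.succAbove j)).trans ?_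
              exact ((pr_cons'_succ f y _ ((bs_simp' f _ w.1).trans hw).symm j).trans (pr_simp' f _ _ _)).symm) _ _ _
        simp only [hc]
        simp only [h0, hsucc, Fin.val_zero, pow_zero, one_zsmul, Fin.val_succ, pow_succ, mul_neg, mul_one,
          neg_smul, Finset.sum_neg_distrib] at h
        exact (add_neg_eq_zero.1 (h.trans rfl)).symm)
    refine ⟨W', hxW', hW'.trans hWO, ((Cp f p).obj F).obj.map (homOfLE hW').op t', ?_⟩
    rw [NatTrans.naturality_apply]
    have h := sub_eq_zero.1 ((map_sub (((Cp f (p + 1)).obj F).obj.map (homOfLE hW').op).hom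
      (((dd f p).app F).hom.app (op W) t') tW).symm.trans hr)
    exact h

include h1 h2 hs in
theorem exact_aug : (ShortComplex.mk ((aug f).app F) ((dd f 0).app F) (aug_dd f F)).Exact :=
  exact_of_germs _ fun x O hx t ht => by
    obtain ⟨y, rfl⟩ := hs x
    change secs (bs f 0) F ((Opens.map (bs f 0)).obj O) at t
    let w₀ : Pw f 0 := ofTup f 0 ⟨fun _ => y, fun _ => rfl⟩
    have hw₀ : bs f 0 w₀ = f y := bs_ofTup f 0 _
    obtain ⟨O₁, hyO₁, s, hs'⟩ :=
      exists_gm_eq F (t.1 ⟨w₀, show bs f 0 w₀ ∈ O from hw₀.symm ▸ hx⟩ ⟨f y, hw₀⟩)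
    let W₁ : Opens S := O ⊓ O₁
    let tW : secs (bs f 0) F ((Opens.map (bs f 0)).obj W₁) :=
      ((Cp f 0).obj F).obj.map (homOfLE (inf_le_left : W₁ ≤ O)).op t
    let sW := F.obj.map (homOfLE (inf_le_right : W₁ ≤ O₁)).op s
    obtain ⟨W', hxW', hW', hr⟩ := exists_zero (bs f 0) (tube_bs f 0 h1 h2)
      (finSep_bs f 0 h2) F (f y) W₁ ⟨hx, hyO₁⟩ (unitApp (bs f 0) F W₁ sW - tW) (fun w hw => by
        change gm F W₁ (f y) _ sW - tW.1 w ⟨f y, hw⟩ = 0
        rw [sub_eq_zero]
        refine (gm_res F (inf_le_right : W₁ ≤ O₁) _ _ s).trans (hs'.trans ?_)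
        let c : Pw f 1 := cons' f y w.1 hw.symm
        have hc : bs f 1 c = f y := (bs_cons' f y w.1 hw.symm).trans hw
        have hcO : bs f 1 c ∈ O := hc.symm ▸ hx
        have h := (dd_val f F 0 O t ⟨c, hcO⟩ ⟨f y, hc⟩).symm.trans
          (congrArg (fun a : secs (bs f 1) F ((Opens.map (bs f 1)).obj O) => a.1 ⟨c, hcO⟩ ⟨f y, hc⟩) ht)
        rw [Fin.sum_univ_two] at h
        simp only [Fin.val_zero, pow_zero, one_zsmul, Fin.val_one, pow_one, neg_smul] at h
        refine Eq.trans ?_ ((add_neg_eq_zero.1 (h.trans rfl)).symm.trans ?_)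
        · refine secs_congr t (pw_ext f fun i => ?_) _ _ _
          refine Eq.trans ?_ (pr_simp' f _ i _).symm
          rw [Fin.fin_one_eq_zero i, show Fin.succAbove (1 : Fin 2) 0 = 0 from rfl]
          exact (pr_ofTup f 0 _ _).trans (pr_cons'_zero f y w.1 hw.symm).symm
        · refine secs_congr t (pw_ext f fun i => ?_) _ _ _
          refine (pr_simp' f _ i _).trans ?_
          rw [Fin.succAbove_zero]
          exact pr_cons'_succ f y w.1 hw.symm i)
    refine ⟨W', hxW', hW'.trans inf_le_left, F.obj.map (homOfLE hW').op sW, ?_⟩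
    refine (NatTrans.naturality_apply ((aug f).app F).hom (homOfLE hW').op sW).trans ?_
    exact sub_eq_zero.1 ((map_sub (((Cp f 0).obj F).obj.map (homOfLE hW').op).hom
      (unitApp (bs f 0) F W₁ sW) tW).symm.trans hr)

include hs in
theorem mono_aug : Mono ((aug f).app F) :=
  ⟨fun {T} a b h => Sheaf.hom_ext (NatTrans.ext (funext fun W => AddCommGrpCat.ext fun t =>
    gm_ext F W.unop _ _ fun x hx => by
      obtain ⟨y, rfl⟩ := hs x
      let w₀ : Pw f 0 := ofTup f 0 ⟨fun _ => y, fun _ => rfl⟩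
      have hw₀ : bs f 0 w₀ = f y := bs_ofTup f 0 _
      exact congrArg (fun c : secs (bs f 0) F ((Opens.map (bs f 0)).obj W.unop) =>
        c.1 ⟨w₀, show bs f 0 w₀ ∈ W.unop from hw₀.symm ▸ hx⟩ ⟨f y, hw₀⟩)
        (ConcreteCategory.congr_hom (congrArg (fun k => k.hom.app W) h) t)))⟩

end Groth.Agent.TopFinite
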