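import Groth.Agent.TopFinite.Push
import Groth.Agent.TopPullModel.Descent
import Mathlib.Topology.Constructions

/-!
Fibre powers of closed maps with finite separated fibres.
-/

set_option autoImplicit false
set_option linter.style.haveILetI false
set_option linter.unusedSectionVars false
set_option backward.isDefEq.respectTransparency false
set_option backward.isDefEq.respectTransparency.types false

universe u

open CategoryTheory Category Limits Opposite TopologicalSpace
open Groth.Agent.TopPullModel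

namespace Groth.Agent.TopFinite

variable {X S : TopCat.{u}} (f : X ⟶ S) (p : ℕ)

/-- The tuples over a point, as a space. -/
abbrev Tup : TopCat.{u} := TopCat.of {a : Fin (p + 1) → X // ∀ i, f (a i) = f (a 0)}

/-- Tuples to the fibre power. -/
noncomputable def ofTup : Tup f p ⟶ Pw f p :=
  WidePullback.lift
    (TopCat.ofHom ⟨fun a => f (a.1 0), f.hom.continuous.comp ((continuous_apply 0).comp continuous_subtype_val)⟩)
    (fun i => TopCat.ofHom ⟨fun a => a.1 i, (continuous_apply i).comp continuous_subtype_val⟩)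
    fun i => by ext a; exact a.2 i

theorem pr_ofTup (a : Tup f p) (i : Fin (p + 1)) : pr f i (ofTup f p a) = a.1 i := by
  change (ofTup f p ≫ pr f i) a = _
  rw [ofTup, WidePullback.lift_π]
  rfl

theorem bs_ofTup (a : Tup f p) : bs f p (ofTup f p a) = f (a.1 0) := by
  rw [← f_pr f 0, pr_ofTup]

/-- Basic neighbourhoods in the fibre power. -/
theorem exists_box {U : Set (Pw f p)} (hU : IsOpen U) {w : Pw f p} (hw : w ∈ U) :
    ∃ O : Fin (p + 1) → Opens X, (∀ i, pr f i w ∈ O i) ∧ ∀ v, (∀ i, pr f i v ∈ O i) → v ∈ U := by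
  let q : Pw f p → (Fin (p + 1) → X) := fun v i => pr f i v
  let q' : Pw f p → Tup f p := fun v => ⟨q v, fun i => (f_pr f i v).trans (f_pr f 0 v).symm⟩
  have hr : Function.LeftInverse (ofTup f p) q' := fun v => pw_ext f fun i => pr_ofTup f p _ i
  have hq' : Continuous q' :=
    Continuous.subtype_mk (continuous_pi fun i => (pr f i).hom.continuous) _
  have hq : Topology.IsEmbedding q :=
    Topology.IsEmbedding.subtypeVal.comp (hr.isEmbedding (ofTup f p).hom.continuous hq')
  obtain ⟨U', hU', rfl⟩ := hq.isInducing.isOpen_iff.1 hU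
  obtain ⟨I, O, hO, hsub⟩ := isOpen_pi_iff.1 hU' (q w) hw
  classical
  refine ⟨fun i => if h : i ∈ I then ⟨O i, (hO i h).1⟩ else ⊤, fun i => ?_, fun v hv => hsub fun i hi => ?_⟩
  · dsimp only
    split
    · exact (hO i ‹_›).2
    · trivial
  · have := hv i
    dsimp only at this
    rw [dif_pos (show i ∈ I from hi)] at this
    exact this

theorem finSep_bs (h2 : FinSep f) : FinSep (bs f p) := by
  intro x
  obtain ⟨hfin, U, hU, hdis⟩ := h2 x
  have hmem : ∀ v, v ∈ (bs f p) ⁻¹' {x} → ∀ i, pr f i v ∈ f ⁻¹' {x} := fun v hv i =>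
    (f_pr f i v).trans hv
  refine ⟨?_, fun v => ⋂ i, pr f i ⁻¹' U (pr f i v), fun v hv => ⟨isOpen_iInter_of_finite fun i =>
    ((hU _ (hmem v hv i)).1).preimage (pr f i).hom.continuous,
      Set.mem_iInter.2 fun i => (hU _ (hmem v hv i)).2⟩, fun v hv v' hv' hne => ?_⟩
  · refine Set.Finite.of_finite_image ((Set.Finite.pi fun _ : Fin (p + 1) => hfin).subset ?_)
      (f := fun v => fun i => pr f i v) fun v _ v' _ h => pw_ext f fun i => congrFun h i
    rintro _ ⟨v, hv, rfl⟩ i -
    exact hmem v hv i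
  · obtain ⟨i, hi⟩ : ∃ i, pr f i v ≠ pr f i v' := by
      by_contra h
      simp only [ne_eq, not_exists, not_not] at h
      exact hne (pw_ext f h)
    exact Set.disjoint_left.2 fun z hz hz' => Set.disjoint_left.1
      (hdis (hmem v hv i) (hmem v' hv' i) hi) (Set.mem_iInter.1 hz i) (Set.mem_iInter.1 hz' i)

theorem tube_bs (h1 : Tube f) (h2 : FinSep f) : Tube (bs f p) := by
  intro x U hU hx
  have hb : ∀ a : Fin (p + 1) → {y : X // f y = x}, ∃ O : Fin (p + 1) → Opens X,
      (∀ i, (a i).1 ∈ O i) ∧ ∀ v, (∀ i, pr f i v ∈ O i) → v ∈ U := fun a => by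
    let w := ofTup f p ⟨fun i => (a i).1, fun i => (a i).2.trans (a 0).2.symm⟩
    obtain ⟨O, hO, hsub⟩ := exists_box f p hU (w := w) (hx ((bs_ofTup f p _).trans (a 0).2))
    exact ⟨O, fun i => by have h := hO i; rw [pr_ofTup] at h; exact h, hsub⟩
  choose O hO hsub using hb
  haveI : Finite {y : X // f y = x} := (h2 x).1.to_subtype
  classical
  let N : ∀ y, f y = x → Set X := fun y hy =>
    ⋂ ai : {ai : (Fin (p + 1) → {y : X // f y = x}) × Fin (p + 1) // ai.1 ai.2 = ⟨y, hy⟩}, (O ai.1.1 ai.1.2 : Set X)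
  have hNo : ∀ y hy, IsOpen (N y hy) := fun y hy => isOpen_iInter_of_finite fun _ => (O _ _).2
  have hNy : ∀ y hy, y ∈ N y hy := fun y hy => Set.mem_iInter.2 fun ai => by
    have h := hO ai.1.1 ai.1.2
    rw [ai.2] at h
    exact h
  obtain ⟨W, D, hxW, -, -, hDN, -, hcov⟩ :=
    exists_tube f h1 h2 x ⊤ trivial (fun y hy => ⟨N y hy, hNo y hy⟩) hNy
  refine ⟨W, W.2, hxW, fun v hv => ?_⟩
  have : ∀ i, ∃ y : {y : X // f y = x}, pr f i v ∈ D y := fun i =>
    Opens.mem_iSup.1 (hcov (show f (pr f i v) ∈ W from (f_pr f i v).symm ▸ hv))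
  choose a ha using this
  refine hsub a v fun i => ?_
  exact Set.mem_iInter.1 (hDN (a i) (ha i)) ⟨(a, i), rfl⟩

theorem surjective_bs (hs : Function.Surjective f) : Function.Surjective (bs f p) := fun x => by
  obtain ⟨y, rfl⟩ := hs x
  exact ⟨ofTup f p ⟨fun _ => y, fun _ => rfl⟩, bs_ofTup f p _⟩

end Groth.Agent.TopFinite
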