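import Groth.Agent.TopFinite.Exact
import Groth.Agent.TopPullModel.LocalHomeo
import Groth.Agent.GrothSS.PageOneAcyclic

/-!
The descent spectral sequence of a surjective closed map with finite separated fibres.
-/

set_option autoImplicit false
set_option linter.style.haveILetI false
set_option linter.unusedSectionVars false
set_option backward.isDefEq.respectTransparency false
set_option backward.isDefEq.respectTransparency.types false

universe u

open CategoryTheory Category Limits Opposite TopologicalSpace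
open Groth.Agent.TopPullModel

namespace Groth.Agent.TopFinite

theorem nonempty_push_derived {P S : TopCat.{u}} (g : P ⟶ S) (h1 : Tube g) (h2 : FinSep g)
    (G : CohTop.Ab P) (q : ℕ) :
    Nonempty (((gam S).rightDerived q).obj ((CohTop.push g).obj G) ≅ AddCommGrpCat.of (CohTop.H G q)) := by
  haveI := pushAb_preservesFiniteColimits g h1 h2
  haveI : PreservesFiniteLimits (CohTop.push g) := by
    haveI := (TopCat.Sheaf.pullbackPushforwardAdjunction AddCommGrpCat.{u} g).rightAdjoint_preservesLimits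
    infer_instance
  obtain ⟨i⟩ := GrothSS.nonempty_rightDerived_comp_acyclic (CohTop.push g) (gam S) (fun Q hQ r hr => by
    obtain ⟨r, rfl⟩ : ∃ r', r = r' + 1 := ⟨r - 1, by omega⟩
    haveI := hQ
    haveI : TopCat.Sheaf.IsFlasque Q := S0454.result Q
    haveI : TopCat.Sheaf.IsFlasque ((CohTop.push g).obj Q) := TopCat.Sheaf.IsFlasque.pushforward_isFlasque Q g
    exact isZero_gamDerived_of_flasque _ r) q G
  exact ⟨i.symm ≪≫ (GrothSS.rightDerivedMapIso (pushGamIso g) q).app G ≪≫ gamDerived q G⟩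

variable {X S : TopCat.{u}} (f : X ⟶ S) (h1 : Tube f) (h2 : FinSep f) (hs : Function.Surjective f)

include h1 h2 hs in
/-- The descent spectral sequence with any identification of the first page. -/
theorem exists_descent (F : CohTop.Ab S) (E1 : ℕ → ℕ → AddCommGrpCat.{u})
    (e1 : ∀ p q, Nonempty (AddCommGrpCat.of (CohTop.H ((mfun (bs f p)).obj F) q) ≅ E1 p q)) :
    ∃ (E : CohomologicalSpectralSequence AddCommGrpCat.{u} 1) (a : SpSeq.Abutment E (fun n : ℤ => if 0 ≤ n then AddCommGrpCat.of (CohTop.H F n.toNat) else AddCommGrpCat.of PUnit.{u + 1})), (∀ n, a.IsFinite n) ∧ SpSeq.IsBounded E ∧ ∀ p q : ℤ, Nonempty ((E.page 1 le_rfl).X (p, q) ≅ (if 0 ≤ p ∧ 0 ≤ q then E1 p.toNat q.toNat else AddCommGrpCat.of PUnit.{u + 1})) :=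
  GrothSS.exists_pageOne_resolution (gam S) (fun p => (Cp f p).obj F) (fun p => (dd f p).app F)
    (fun p => dd_dd f p F) F ((aug f).app F) (aug_dd f F) (mono_aug f F hs) (exact_aug f F h1 h2 hs)
    (fun p => exact_dd f F h1 h2 hs p) (fun n => AddCommGrpCat.of (CohTop.H F n)) E1
    _ (AddCommGrpCat.isZero_of_subsingleton _) (fun n => ⟨gamDerived n F⟩) (fun p q =>
      ⟨(nonempty_push_derived (bs f p) (tube_bs f p h1 h2) (finSep_bs f p h2) ((mfun (bs f p)).obj F) q).some ≪≫
        (e1 p q).some⟩)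

include h1 h2 hs in
/-- The descent spectral sequence. -/
theorem descent_ss (F : CohTop.Ab S) :
    ∃ (E : CohomologicalSpectralSequence AddCommGrpCat.{u} 1) (a : SpSeq.Abutment E (fun n : ℤ => if 0 ≤ n then AddCommGrpCat.of (CohTop.H F n.toNat) else AddCommGrpCat.of PUnit.{u + 1})), (∀ n, a.IsFinite n) ∧ SpSeq.IsBounded E ∧ ∀ p q : ℤ, Nonempty ((E.page 1 le_rfl).X (p, q) ≅ (if 0 ≤ p ∧ 0 ≤ q then AddCommGrpCat.of (CohTop.H ((CohTop.pull (WidePullback.base (fun _ : Fin (p.toNat + 1) => f) : widePullback S (fun _ : Fin (p.toNat + 1) => X) (fun _ => f) ⟶ S)).obj F) q.toNat) else AddCommGrpCat.of PUnit.{u + 1})) :=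
  exists_descent f h1 h2 hs F (fun p q => AddCommGrpCat.of (CohTop.H ((CohTop.pull (bs f p)).obj F) q))
    (fun p q => ⟨CohTopDesc.hIso ((mfunIso (bs f p)).app F) q⟩)

end Groth.Agent.TopFinite
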